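import Groth.Agent.EtPBC63.SepClosedBC.Near
import Groth.Agent.EtFound.FiniteBaseChange

/-!
# Base change along a morphism to the spectrum of a separably closed field
-/

universe u

open CategoryTheory CategoryTheory.Limits AlgebraicGeometry Opposite

namespace Groth.Agent.EtPBC63.SepClosedBC

open EtFound Gabber FlatConn

set_option backward.isDefEq.respectTransparency.types false

theorem germ_section_top {k : Type u} [Field k] [IsSepClosed k] {Ω : Type u} [Field Ω] [IsSepClosed Ω]
    (η : Spec (CommRingCat.of Ω) ⟶ Spec (CommRingCat.of k)) (G : EtCoh.Ab (Spec (CommRingCat.of k)))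
    (c : (EtCoh.stalk η).obj G) :
    ∃ (u₀ : (Scheme.pointSmallEtale η).fiber.obj (EtCoh.top _)) (s : G.obj.obj (op (EtCoh.top _))),
      (Scheme.pointSmallEtale η).toPresheafFiber _ u₀ G.obj s = c := by
  obtain ⟨U, u, σ, rfl⟩ := (Scheme.pointSmallEtale η).toPresheafFiber_jointly_surjective c
  haveI := U.prop
  obtain ⟨a, ⟨ha, hl⟩, -⟩ := existsUnique_of_etale_of_isSepClosed U.hom η
    (u.left : Spec (CommRingCat.of Ω) ⟶ U.left) (CategoryTheory.Over.w u)
  let r : EtCoh.top (Spec (CommRingCat.of k)) ⟶ U := MorphismProperty.Over.homMk a ha trivial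
  let u₀ : (Scheme.pointSmallEtale η).fiber.obj (EtCoh.top _) := CategoryTheory.Over.homMk η (Category.comp_id _)
  refine ⟨u₀, G.obj.map r.op σ, ?_⟩
  rw [(Scheme.pointSmallEtale η).toPresheafFiber_w_apply r u₀ G.obj σ]
  exact congrArg (fun z => (Scheme.pointSmallEtale η).toPresheafFiber U z G.obj σ)
    (CategoryTheory.Over.OverMorphism.ext hl)

variable {k : Type u} [Field k] [IsSepClosed k] {X Y T : Scheme.{u}} (f : X ⟶ Spec (CommRingCat.of k))
  (g : T ⟶ Spec (CommRingCat.of k)) [QuasiCompact g] (h : Y ⟶ X) (e : Y ⟶ T) (hc : IsPullback e h g f)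
  (F : EtCoh.Ab T)

omit [IsSepClosed k] [QuasiCompact g] in
theorem map_pb_baseTop {W : Y.Etale} (m : W ⟶ (EtCoh.bc e).obj ((EtCoh.bc g).obj (EtCoh.top _)))
    (d : F.obj.obj (op ((EtCoh.bc g).obj (EtCoh.top _)))) :
    ((EtCoh.pull e).obj F).obj.map m.op (pb e F _ d) = ((EtCoh.pull e).obj F).obj.map
      ((EtCore.bcTopIsTerminal e).from W).op (pb e F (EtCoh.top T) (F.obj.map (EtCore.bcTopIso g).inv.op d)) := by
  rw [pb_map, ← Functor.map_comp_apply, ← op_comp]
  exact congrArg (fun a => ((EtCoh.pull e).obj F).obj.map (Quiver.Hom.op a) (pb e F _ d))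
    (((EtCore.bcTopIsTerminal e).ofIso ((EtCoh.bc e).mapIso (EtCore.bcTopIso g).symm)).hom_ext _ _)

include hc

/-- The degree zero base change map along a scheme over a separably closed field is an isomorphism. -/
theorem isIso_baseChange0 : IsIso (EtCoh.baseChange0 g f h e hc.w F) := by
  classical
  let β := EtCoh.baseChange0 g f h e hc.w F
  let S₀ := EtCoh.top (Spec (CommRingCat.of k))
  let G := (EtCoh.push g).obj F
  let P := (EtCoh.pull e).obj F
  let bA := EtCore.bcTopIso g
  refine isIso_of_stalks β fun Ω _ _ ξ => ?_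
  let Φ := Scheme.pointSmallEtale ξ
  have huniq : ∀ a b : Φ.fiber.obj ((EtCoh.bc f).obj S₀), a = b := fun a b =>
    (bcFiberEquiv f ξ S₀).injective (CategoryTheory.Over.OverMorphism.ext
      (((Category.comp_id _).symm.trans (CategoryTheory.Over.w _)).trans
        ((Category.comp_id _).symm.trans (CategoryTheory.Over.w _)).symm))
  have hrep : ∀ c : (EtCoh.stalk ξ).obj ((EtCoh.pull f).obj G), ∃ (z : Φ.fiber.obj ((EtCoh.bc f).obj S₀))
      (s : F.obj.obj (op ((EtCoh.bc g).obj S₀))), Φ.toPresheafFiber _ z ((EtCoh.pull f).obj G).obj (pb f G S₀ s) = c := by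
    intro c
    have hb := (ConcreteCategory.isIso_iff_bijective
      ((sheafFiberPullIso (A := AddCommGrpCat.{u + 1}) f ξ).inv.app G)).mp inferInstance
    obtain ⟨c', rfl⟩ := hb.2 c
    obtain ⟨u₀, s, rfl⟩ := germ_section_top (ξ ≫ f) G c'
    refine ⟨(bcFiberEquiv f ξ S₀).symm u₀, s, (germ_pb f G S₀ _ s).symm.trans ?_⟩
    rw [Equiv.apply_symm_apply]
  have himg : ∀ (z : Φ.fiber.obj ((EtCoh.bc f).obj S₀)) (s : F.obj.obj (op ((EtCoh.bc g).obj S₀))),
      (Scheme.pointSmallEtale ξ).presheafFiber.map β.hom (Φ.toPresheafFiber _ z ((EtCoh.pull f).obj G).obj (pb f G S₀ s)) =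
        Φ.toPresheafFiber _ z ((EtCoh.push h).obj P).obj (P.obj.map (bcSquare hc.w S₀).op (pb e F _ s)) := by
    intro z s
    refine (stalk_map_germ β _ z _).trans (congrArg _ ?_)
    exact (ConcreteCategory.congr_hom (baseChange0_unit g f h e hc.w F S₀) s)
  -- the common shape of the restrictions
  have hres : ∀ (V : X.Etale) (r : V ⟶ (EtCoh.bc f).obj S₀) (s : F.obj.obj (op ((EtCoh.bc g).obj S₀))),
      ((EtCoh.push h).obj P).obj.map r.op (P.obj.map (bcSquare hc.w S₀).op (pb e F _ s)) =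
        P.obj.map ((EtCore.bcTopIsTerminal e).from ((EtCoh.bc h).obj V)).op
          (pb e F (EtCoh.top T) (F.obj.map bA.inv.op s)) := by
    intro V r s
    show P.obj.map ((EtCoh.bc h).map r).op (P.obj.map (bcSquare hc.w S₀).op (pb e F _ s)) = _
    rw [← Functor.map_comp_apply, ← op_comp]
    exact map_pb_baseTop g e F _ s
  refine ⟨(injective_iff_map_eq_zero _).mpr fun c hc0 => ?_, fun c => ?_⟩
  · obtain ⟨z, s, rfl⟩ := hrep c
    rw [himg, ← map_zero (Φ.toPresheafFiber ((EtCoh.bc f).obj S₀) z ((EtCoh.push h).obj P).obj).hom] at hc0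
    obtain ⟨V, r, v, -, he⟩ := (Φ.toPresheafFiber_eq_iff' _ z _ _).1 hc0
    rw [map_zero, hres] at he
    suffices hs : F.obj.map bA.inv.op s = 0 by
      have : s = 0 := by
        have h2 := congrArg (F.obj.map bA.hom.op) hs
        rwa [map_zero, ← Functor.map_comp_apply, ← op_comp, Iso.hom_inv_id, op_id,
          CategoryTheory.Functor.map_id, ConcreteCategory.id_apply] at h2
      rw [this]
      exact (congrArg _ (map_zero _)).trans (map_zero _)
    refine eq_zero_of_germSupp _ (Set.eq_empty_of_forall_notMem fun t ht => ?_)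
    let W := (EtCoh.bc h).obj V
    have key : IsPullback (pullback.fst V.hom h) (W.hom ≫ e) (V.hom ≫ f) g :=
      (IsPullback.of_hasPullback V.hom h).paste_vert hc.flip
    obtain ⟨y, -, hy⟩ := Scheme.exists_preimage_of_isPullback key (ptOf v) ((EtCoh.top T).hom.base t)
      (Subsingleton.elim _ _)
    let a := (EtCore.bcTopIsTerminal e).from W
    have h3 : t = (pullback.fst (EtCoh.top T).hom e).base (a.left.base y) := by
      refine (show Function.Injective (EtCoh.top T).hom.base from fun _ _ hh => hh) (hy.symm.trans ?_)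
      have h0 : W.hom ≫ e = a.left ≫ pullback.fst (EtCoh.top T).hom e ≫ (EtCoh.top T).hom := by
        refine ((congrArg (· ≫ e) (MorphismProperty.Over.w a).symm).trans (Category.assoc _ _ _)).trans ?_
        exact congrArg (a.left ≫ ·) (pullback.condition (f := (EtCoh.top T).hom) (g := e)).symm
      exact (congrArg (fun (m : W.left ⟶ T) => m.base y) h0).trans ((Scheme.Hom.comp_apply _ _ y).trans
        (Scheme.Hom.comp_apply _ _ _))
    have h4 := (germSupp_map a _ y).mpr ((germSupp_pb e F (EtCoh.top T) _ _).mpr (h3 ▸ ht))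
    rw [he] at h4
    exact germSupp_zero _ _ _ h4
  · obtain ⟨V₀, v₀, τ₀, rfl⟩ := Φ.toPresheafFiber_jointly_surjective c
    obtain ⟨V, hV, r₀, v, rfl⟩ := exists_affine_nhd V₀ v₀
    let τ : P.obj.obj (op ((EtCoh.bc h).obj V)) := ((EtCoh.push h).obj P).obj.map r₀.op τ₀
    haveI := hV
    obtain ⟨s, O, hvO, hO⟩ := exists_section_near hc F V (ptOf v) τ
    let V' := restrictEtale V O
    obtain ⟨v', hv', -⟩ := exists_lift_point (restrictEtaleHom V O) v ⟨ptOf v, hvO⟩ rfl
    let r : V' ⟶ (EtCoh.bc f).obj S₀ := (EtCore.bcTopIsTerminal f).from V'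
    refine ⟨Φ.toPresheafFiber _ (Φ.fiber.map r v') ((EtCoh.pull f).obj G).obj (pb f G S₀ (F.obj.map bA.hom.op s)), ?_⟩
    rw [himg, ← Φ.toPresheafFiber_w_apply r v' ((EtCoh.push h).obj P).obj, hres]
    refine Eq.trans ?_ ((Φ.toPresheafFiber_w_apply r₀ v ((EtCoh.push h).obj P).obj τ₀))
    refine Eq.trans ?_ ((Φ.toPresheafFiber_w_apply (restrictEtaleHom V O) v' ((EtCoh.push h).obj P).obj τ).trans
      (congrArg (fun w => Φ.toPresheafFiber V w ((EtCoh.push h).obj P).obj τ) hv'))
    refine congrArg _ ?_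
    rw [← Functor.map_comp_apply, ← op_comp, Iso.inv_hom_id, op_id, CategoryTheory.Functor.map_id,
      ConcreteCategory.id_apply]
    let ρ := (EtCoh.bc h).map (restrictEtaleHom V O)
    show _ = P.obj.map ρ.op τ
    symm
    rw [← sub_eq_zero]
    refine eq_zero_of_germSupp _ (Set.eq_empty_of_forall_notMem fun y hy => ?_)
    have h5 : P.obj.map ((EtCore.bcTopIsTerminal e).from ((EtCoh.bc h).obj V')).op (pb e F (EtCoh.top T) s) =
        P.obj.map ρ.op (P.obj.map ((EtCore.bcTopIsTerminal e).from ((EtCoh.bc h).obj V)).op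
          (pb e F (EtCoh.top T) s)) := by
      rw [← Functor.map_comp_apply, ← op_comp]
      exact congrArg (fun a => P.obj.map (Quiver.Hom.op a) (pb e F (EtCoh.top T) s))
        ((EtCore.bcTopIsTerminal e).hom_ext _ _)
    rw [h5, ← map_sub] at hy
    refine hO _ ?_ ((germSupp_map ρ _ y).mp hy)
    rw [show (pullback.fst V.hom h).base (ρ.left.base y) = _ from bc_fst h (restrictEtaleHom V O) y]
    exact ((pullback.fst V'.hom h).base y).2

end Groth.Agent.EtPBC63.SepClosedBC
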