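import Groth.Agent.EtPBC63.SepClosedBC.Restrict
import Groth.Agent.CAlgOdd.GeomIrrField
import Groth.Agent.AssLib.FlatField

/-!
# Base change to a scheme over a separably closed field: local comparison of sections
-/

universe u

open CategoryTheory CategoryTheory.Limits AlgebraicGeometry Opposite TensorProduct

namespace Groth.Agent.EtPBC63.SepClosedBC

open EtFound Gabber FlatConn

set_option backward.isDefEq.respectTransparency.types false

theorem connectedSpace_pullback_field {k : Type u} [Field k] [IsSepClosed k] {R Ω : Type u} [CommRing R]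
    [IsDomain R] [Field Ω] (a : Spec (CommRingCat.of R) ⟶ Spec (CommRingCat.of k))
    (b : Spec (CommRingCat.of Ω) ⟶ Spec (CommRingCat.of k)) : ConnectedSpace ↥(pullback a b) := by
  obtain ⟨φ, rfl⟩ := Spec.map_surjective a
  obtain ⟨ψ, rfl⟩ := Spec.map_surjective b
  algebraize [φ.hom, ψ.hom]
  haveI : IrreducibleSpace (PrimeSpectrum (R ⊗[k] Ω)) :=
    PrimeSpectrum.irreducibleSpace_iff_isPrime_nilradical.mpr
      (CAlgOdd.GeomIrrField.isPrime_nilradical_tensor k R Ω)
  haveI : IrreducibleSpace ↥(Spec (CommRingCat.of (R ⊗[k] Ω))) := ‹_›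
  exact (Scheme.homeoOfIso (pullbackSpecIso k R Ω)).connectedSpace_iff.mpr inferInstance

variable {k : Type u} [Field k] [IsSepClosed k] {X Y T : Scheme.{u}} {f : X ⟶ Spec (CommRingCat.of k)}
  {g : T ⟶ Spec (CommRingCat.of k)} [QuasiCompact g] {h : Y ⟶ X} {e : Y ⟶ T} (hc : IsPullback e h g f)
  (F : EtCoh.Ab T)

include hc

/-- Near a given point every section over `V ×_X Y` comes from a global section of `F`. -/
theorem exists_section_near (V : X.Etale) [IsAffine V.left] (v₀ : V.left)
    (τ : ((EtCoh.pull e).obj F).obj.obj (op ((EtCoh.bc h).obj V))) :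
    ∃ (s : F.obj.obj (op (EtCoh.top T))) (O : V.left.Opens), v₀ ∈ O ∧
      ∀ y : ((EtCoh.bc h).obj V).left, (pullback.fst V.hom h).base y ∈ O →
        y ∉ germSupp ((EtCoh.pull e).obj F) ((EtCoh.bc h).obj V) (τ - ((EtCoh.pull e).obj F).obj.map
          ((EtCore.bcTopIsTerminal e).from ((EtCoh.bc h).obj V)).op (pb e F (EtCoh.top T) s)) := by
  classical
  let P := (EtCoh.pull e).obj F
  let W := (EtCoh.bc h).obj V
  let q : W.left ⟶ V.left := pullback.fst V.hom h
  let p : W.left ⟶ T := W.hom ≫ e
  let sW := fun s : F.obj.obj (op (EtCoh.top T)) =>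
    P.obj.map ((EtCore.bcTopIsTerminal e).from W).op (pb e F (EtCoh.top T) s)
  have key : IsPullback q p (V.hom ≫ f) g := (IsPullback.of_hasPullback V.hom h).paste_vert hc.flip
  haveI : QuasiCompact q := MorphismProperty.of_isPullback key.flip ‹QuasiCompact g›
  haveI : CompactSpace W.left := QuasiCompact.compactSpace_of_compactSpace q
  haveI : SpectralSpace V.left := {}
  -- the reduced closure of a point
  have hZ : ∀ v : V.left, ∃ (R : Type u) (_ : CommRing R) (_ : IsDomain R)
      (ι : Spec (CommRingCat.of R) ⟶ V.left), IsClosedImmersion ι ∧ v ∈ Set.range ι.base := by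
    intro v
    let P := (V.left.isoSpec.hom.base v : PrimeSpectrum Γ(V.left, ⊤)).asIdeal
    haveI : P.IsPrime := (V.left.isoSpec.hom.base v : PrimeSpectrum Γ(V.left, ⊤)).isPrime
    let m := Spec.map (CommRingCat.ofHom (Ideal.Quotient.mk P))
    haveI : IsClosedImmersion m := IsClosedImmersion.spec_of_surjective _ Ideal.Quotient.mk_surjective
    refine ⟨_, inferInstance, inferInstance, m ≫ V.left.isoSpec.inv, inferInstance, ?_⟩
    obtain ⟨z, hz⟩ : (V.left.isoSpec.hom.base v) ∈ Set.range m.base := by
      have h1 : Set.range (PrimeSpectrum.comap (Ideal.Quotient.mk P)) = _ :=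
        _root_.range_comap_of_surjective _ (Ideal.Quotient.mk P) Ideal.Quotient.mk_surjective
      refine (Set.ext_iff.mp h1 _).mpr ?_
      rw [Ideal.mk_ker]
      exact fun x hx => hx
    refine ⟨z, (Scheme.Hom.comp_apply m V.left.isoSpec.inv z).trans ((congrArg _ hz).trans ?_)⟩
    exact (Scheme.Hom.comp_apply V.left.isoSpec.hom V.left.isoSpec.inv v).symm.trans
      (congr($(V.left.isoSpec.hom_inv_id) v))
  choose R _ _ ι hι hιv using hZ
  haveI := hι
  -- sections agree over closures of points
  have hsec : ∀ v : V.left, ∃ s, ∀ y : W.left, q.base y ∈ Set.range (ι v).base →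
      y ∉ germSupp P W (τ - sW s) := by
    intro v
    let i := pullback.snd (ι v) q ≫ W.hom
    have sq : IsPullback (pullback.fst (ι v) q) (i ≫ e) (ι v ≫ V.hom ≫ f) g := by
      have h1 := (IsPullback.of_hasPullback (ι v) q).paste_vert key
      simpa [i, p] using h1
    haveI : Flat (i ≫ e) := MorphismProperty.of_isPullback sq (AssLib.flat_over_field (ι v ≫ V.hom ≫ f))
    haveI : QuasiCompact (ι v ≫ V.hom ≫ f) := quasiCompact_of_compactSpace _
    haveI : QuasiCompact (i ≫ e) := MorphismProperty.of_isPullback sq ‹QuasiCompact (ι v ≫ V.hom ≫ f)›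
    have hconn : ∀ (Ω : Type u) [Field Ω] [IsAlgClosed Ω] (s : Spec (CommRingCat.of Ω) ⟶ T),
        ConnectedSpace ↥(pullback (i ≫ e) s) := fun Ω _ _ s =>
      (Scheme.homeoOfIso ((IsPullback.of_hasPullback (i ≫ e) s).flip.paste_vert sq.flip).flip.isoPullback
        ).connectedSpace_iff.mpr (connectedSpace_pullback_field _ _)
    obtain ⟨s, hs⟩ := exists_section e i F (pullback.snd (ι v) q) rfl
      (FlatConn.bijective_unit (i ≫ e) F hconn) τ
    refine ⟨s, fun y hy => ?_⟩
    obtain ⟨z, hz⟩ := hy
    obtain ⟨a, -, ha⟩ := Scheme.Pullback.exists_preimage_pullback (f := ι v) (g := q) z y hz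
    exact ha ▸ hs a
  choose s hs using hsec
  let D := germSupp P W (τ - sW (s v₀))
  have hD : IsClosed D := isClosed_germSupp _ _ _
  have hB : IsClosed (q.base '' D) := by
    refine (cc_image q hD).isClosed ?_
    rintro v' v hvv' ⟨y', hy', rfl⟩
    let v' := q.base y'
    obtain ⟨y, hy₁, hy₂⟩ := Scheme.exists_preimage_of_isPullback key v (p.base y') (Subsingleton.elim _ _)
    by_contra hv
    have hyD : y ∉ D := fun h => hv ⟨y, h, hy₁⟩
    -- both points lie over the closure of `v'`, where `τ` comes from the base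
    have hy : q.base y ∈ Set.range (ι v').base :=
      hy₁ ▸ hvv'.mem_closed (ι v').isClosedEmbedding.isClosed_range (hιv v')
    have hiff : ∀ x : W.left, x ∉ germSupp P W (τ - sW (s v')) →
        (x ∈ D ↔ p.base x ∈ (EtCoh.top T).hom.base '' germSupp F (EtCoh.top T) (s v' - s v₀)) := by
      intro x hx
      have e1 : x ∈ germSupp P W (sW (s v') - sW (s v₀)) ↔
          p.base x ∈ (EtCoh.top T).hom.base '' germSupp F (EtCoh.top T) (s v' - s v₀) := by
        let a := (EtCore.bcTopIsTerminal e).from W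
        have e2 : sW (s v') - sW (s v₀) = P.obj.map a.op (pb e F (EtCoh.top T) (s v' - s v₀)) := by
          rw [pb_sub, map_sub]
        rw [e2, germSupp_map, germSupp_pb]
        have e3 : p.base x = (EtCoh.top T).hom.base ((pullback.fst (EtCoh.top T).hom e).base (a.left.base x)) := by
          have h0 : W.hom ≫ e = a.left ≫ pullback.fst (EtCoh.top T).hom e ≫ (EtCoh.top T).hom := by
            refine ((congrArg (· ≫ e) (MorphismProperty.Over.w a).symm).trans (Category.assoc _ _ _)).trans ?_
            exact congrArg (a.left ≫ ·) (pullback.condition (f := (EtCoh.top T).hom) (g := e)).symm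
          exact (congrArg (fun (m : W.left ⟶ T) => m.base x) h0).trans ((Scheme.Hom.comp_apply _ _ x).trans
            (Scheme.Hom.comp_apply _ _ _))
        rw [e3]
        exact ⟨fun h => ⟨_, h, rfl⟩, fun ⟨_, h, h'⟩ => (show Function.Injective (EtCoh.top T).hom.base from
          fun _ _ hh => hh) h' ▸ h⟩
      rw [← e1]
      refine ⟨fun h1 => ?_, fun h1 => ?_⟩
      · rcases germSupp_sub_subset τ (sW (s v')) (sW (s v₀)) h1 with h2 | h2
        exacts [absurd h2 hx, h2]
      · by_contra h2
        have h3 : x ∉ germSupp P W (sW (s v') - τ) := by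
          rw [← neg_sub]
          intro h4
          obtain ⟨K, _, _, ξ, z, rfl⟩ := exists_algClosed_point W x
          exact (mem_germSupp_iff _ z).mp h4 (by
            rw [map_neg, neg_eq_zero]; exact not_not.mp fun h5 => hx ((mem_germSupp_iff _ z).mpr h5))
        rcases germSupp_sub_subset (sW (s v')) τ (sW (s v₀)) h1 with h5 | h5
        exacts [h3 h5, h2 h5]
    exact hyD ((hiff y (hs v' y hy)).mpr (hy₂ ▸ (hiff y' (hs v' y' (hιv v'))).mp hy'))
  refine ⟨s v₀, ⟨(q.base '' D)ᶜ, hB.isOpen_compl⟩, fun ⟨y, hy, hy'⟩ => hs v₀ y ?_ hy,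
    fun y hy hyD => hy ⟨y, hyD, rfl⟩⟩
  exact hy' ▸ hιv v₀

end Groth.Agent.EtPBC63.SepClosedBC
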