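import Groth.Agent.EtPBC63.FlatConn
import Groth.Agent.EtFound.Strata

/-!
# Restriction of sections of an inverse image along a morphism to an étale object
-/

universe u

open CategoryTheory CategoryTheory.Limits AlgebraicGeometry Opposite

namespace Groth.Agent.EtPBC63.SepClosedBC

open EtFound Gabber FlatConn

set_option backward.isDefEq.respectTransparency.types false

variable {A Y T : Scheme.{u}} (e : Y ⟶ T) (i : A ⟶ Y) (F : EtCoh.Ab T)

theorem germSupp_app {X : Scheme.{u}} {G H : EtCoh.Ab X} (α : G ⟶ H) {U : X.Etale} (s : G.obj.obj (op U)) :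
    germSupp H U (α.hom.app (op U) s) ⊆ germSupp G U s := by
  intro q hq
  obtain ⟨Ω, _, _, ξ, z, rfl⟩ := exists_algClosed_point U q
  refine (mem_germSupp_iff s z).mpr fun h => (mem_germSupp_iff _ z).mp hq ?_
  exact (stalk_map_germ α U z s).symm.trans ((congrArg _ h).trans (map_zero _))

theorem pb_comp (V : T.Etale) (s : F.obj.obj (op V)) :
    ((pullCompAb i e).hom.app F).hom.app (op ((EtCoh.bc (i ≫ e)).obj V)) (pb (i ≫ e) F V s) =
      ((EtCoh.pull i).obj ((EtCoh.pull e).obj F)).obj.map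
        ((MorphismProperty.Over.pullbackComp (P := EtCoh.etaleMP) (Q := ⊤) i e).hom.app V).op
        (pb i ((EtCoh.pull e).obj F) ((EtCoh.bc e).obj V) (pb e F V s)) := by
  have h := Adjunction.unit_leftAdjointUniq_hom_app (EtCoh.pullPushAdj (i ≫ e))
    (((EtCoh.pullPushAdj e).comp (EtCoh.pullPushAdj i)).ofNatIsoRight (EtCoh.pushComp e i)) F
  refine (ConcreteCategory.congr_hom (congr(($h).hom.app (op V))) s).trans ?_
  simp [Adjunction.ofNatIsoRight, Adjunction.mkOfHomEquiv, Adjunction.equivHomsetRightOfNatIso,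
    Adjunction.comp, EtCoh.pushComp, pb]
  rfl

theorem isTerminal_bc_bc : Nonempty (IsTerminal ((EtCoh.bc i).obj ((EtCoh.bc e).obj (EtCoh.top T)))) :=
  ⟨(EtCore.bcTopIsTerminal (i ≫ e)).ofIso
    ((MorphismProperty.Over.pullbackComp (P := EtCoh.etaleMP) (Q := ⊤) i e).app (EtCoh.top T))⟩

/-- A section over an étale `W → Y` agrees on the image of `j : A ⟶ W` with a global section of `F`
as soon as `A ⟶ T` has bijective unit on global sections. -/
theorem exists_section {W : Y.Etale} (j : A ⟶ W.left) (hj : j ≫ W.hom = i)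
    (hbij : Function.Bijective (((EtCoh.pullPushAdj (i ≫ e)).unit.app F).hom.app (op (EtCoh.top T))))
    (τ : ((EtCoh.pull e).obj F).obj.obj (op W)) :
    ∃ s : F.obj.obj (op (EtCoh.top T)), ∀ a : A, j.base a ∉ germSupp ((EtCoh.pull e).obj F) W
      (τ - ((EtCoh.pull e).obj F).obj.map ((EtCore.bcTopIsTerminal e).from W).op (pb e F (EtCoh.top T) s)) := by
  let P := (EtCoh.pull e).obj F
  let Q := (EtCoh.pull i).obj P
  let R := (EtCoh.pull (i ≫ e)).obj F
  obtain ⟨hterm⟩ := isTerminal_bc_bc e i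
  let σ : EtCoh.top A ⟶ (EtCoh.bc i).obj W :=
    MorphismProperty.Over.homMk (pullback.lift j (𝟙 A) (hj.trans (Category.id_comp _).symm))
      (pullback.lift_snd _ _ _) trivial
  let r : P.obj.obj (op W) → Q.obj.obj (op (EtCoh.top A)) := fun x => Q.obj.map σ.op (pb i P W x)
  let ε := (pullCompAb i e).app F
  let bA := EtCore.bcTopIso (i ≫ e)
  let z : R.obj.obj (op (EtCoh.top A)) := ε.inv.hom.app (op (EtCoh.top A)) (r τ)
  obtain ⟨s, hs⟩ := hbij.2 (R.obj.map bA.hom.op z)
  refine ⟨s, ?_⟩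
  let sW := P.obj.map ((EtCore.bcTopIsTerminal e).from W).op (pb e F (EtCoh.top T) s)
  have e1 : r sW = r τ := by
    have h1 : ε.hom.hom.app (op (EtCoh.top A)) z = r τ := by
      show ((ε.inv ≫ ε.hom).hom.app (op (EtCoh.top A))) (r τ) = r τ
      rw [ε.inv_hom_id]; rfl
    have h2 : z = R.obj.map bA.inv.op (pb (i ≫ e) F (EtCoh.top T) s) := by
      refine Eq.trans ?_ (congrArg (R.obj.map bA.inv.op) hs).symm
      rw [← Functor.map_comp_apply, ← op_comp, Iso.inv_hom_id, op_id, CategoryTheory.Functor.map_id]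
      rfl
    rw [← h1, h2, NatTrans.naturality_apply]
    refine Eq.trans ?_ (congrArg (Q.obj.map bA.inv.op) (pb_comp e i F _ s)).symm
    show Q.obj.map σ.op (pb i P W (P.obj.map _ (pb e F (EtCoh.top T) s))) = Q.obj.map bA.inv.op
      (Q.obj.map ((MorphismProperty.Over.pullbackComp (P := EtCoh.etaleMP) (Q := ⊤) i e).hom.app (EtCoh.top T)).op
        (pb i P ((EtCoh.bc e).obj (EtCoh.top T)) (pb e F (EtCoh.top T) s)))
    rw [pb_map, ← Functor.map_comp_apply, ← op_comp]
    refine Eq.trans ?_ ((ConcreteCategory.congr_hom (CategoryTheory.Functor.map_comp Q.obj _ _)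
      (pb i P _ (pb e F (EtCoh.top T) s))).trans (ConcreteCategory.comp_apply _ _ _))
    exact congrArg (fun k => Q.obj.map (Quiver.Hom.op k) (pb i P _ (pb e F (EtCoh.top T) s))) (hterm.hom_ext _
      (bA.inv ≫ (MorphismProperty.Over.pullbackComp (P := EtCoh.etaleMP) (Q := ⊤) i e).hom.app (EtCoh.top T)))
  intro a ha
  have e2 : (pullback.fst W.hom i).base (σ.left.base a) = j.base a :=
    (Scheme.Hom.comp_apply σ.left (pullback.fst W.hom i) a).symm.trans
      (congr($(pullback.lift_fst j (𝟙 A) (hj.trans (Category.id_comp _).symm)) a))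
  have h3 : σ.left.base a ∈ germSupp Q ((EtCoh.bc i).obj W) (pb i P W (τ - sW)) :=
    (germSupp_pb i P W (τ - sW) _).mpr (e2.symm ▸ ha)
  have h4 : Q.obj.map σ.op (pb i P W (τ - sW)) = 0 := by
    rw [pb_sub, map_sub]
    exact sub_eq_zero.mpr e1.symm
  have h5 := (germSupp_map σ _ a).mpr h3
  rw [h4] at h5
  exact germSupp_zero _ _ _ h5

end Groth.Agent.EtPBC63.SepClosedBC
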